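import Mathlib
import Cfsg.Agent.Lib.Helper15.S3Spec2

/-!
# (K15-E1) a nilpotent `S₃`-invariant group of automorphisms without `t`-elements is abelian
-/

set_option autoImplicit false
open Cfsg Cfsg.Agent.Lib.Helper15.S3

namespace Cfsg.Agent.Lib.Helper23.S3E1
universe u

/-- (E1) a nilpotent `S₃`-invariant group of automorphisms without `t`-elements is abelian. -/
theorem abelian_of_nilpotent (hT : TheoremTStatement.{u}) {V : Type u} [CommGroup V] [Finite V]
    {t : ℕ} (ht : t.Prime) (ht6 : t.Coprime 6) (hV : ∀ v : V, v ^ t = 1)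
    (α : Equiv.Perm (Fin 3) →* MulAut V) (hVfpf : ∀ v : V, (∀ g, α g v = v) → v = 1)
    (X : Subgroup (MulAut V)) (hXα : AInv α X) (hXfpf : AFpf α X)
    (hXcop : (Nat.card X).Coprime 6) (hXnil : Group.IsNilpotent X)
    (hXt : ∀ x ∈ X, x ^ t = 1 → x = 1) :
    ∀ x ∈ X, ∀ y ∈ X, x * y = y * x := by
  classical
  have hfinM : Finite (MulAut V) := Finite.of_injective (fun e : MulAut V => (e : V → V))
    (fun a b h => MulEquiv.ext (congrFun h))
  have hfinX : Finite ↥X := inferInstance
  have htfae := Group.isNilpotent_of_finite_tfae (G := ↥X)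
  have hnormal : ∀ (p : ℕ) (_hp : Fact p.Prime) (P : Sylow p ↥X), (↑P : Subgroup ↥X).Normal :=
    (htfae.out 0 3).mp hXnil
  obtain ⟨φ⟩ : Nonempty
      ((∀ p : (Nat.card ↥X).primeFactors, ∀ P : Sylow p ↥X, (↑P : Subgroup ↥X)) ≃* ↥X) :=
    (htfae.out 0 4).mp hXnil
  -- every Sylow subgroup of `X` is abelian
  have hsyl : ∀ (p : (Nat.card ↥X).primeFactors) (P : Sylow p ↥X),
      ∀ a b : (↑P : Subgroup ↥X), a * b = b * a := by
    intro p P a b
    have hp : (p : ℕ).Prime := Nat.prime_of_mem_primeFactors p.2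
    have hpd : (p : ℕ) ∣ Nat.card ↥X := Nat.dvd_of_mem_primeFactors p.2
    have : Fact (p : ℕ).Prime := ⟨hp⟩
    have hPn := hnormal p ⟨hp⟩ P
    have huniq : ∀ P' : Sylow p ↥X, P' = P := by
      intro P'
      have := Sylow.unique_of_normal P hPn
      exact Subsingleton.elim _ _
    -- the prime is not `t`
    have hpt : t ≠ p := by
      intro hpt
      obtain ⟨x, hx⟩ := exists_prime_orderOf_dvd_card' (G := ↥X) p hpd
      have h1 : x ^ t = 1 := by rw [hpt, ← hx]; exact pow_orderOf_eq_one x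
      have h2 : (x : MulAut V) ^ t = 1 := by
        have := congrArg (fun z : ↥X => (z : MulAut V)) h1
        simpa using this
      have h3 : (x : MulAut V) = 1 := hXt _ x.2 h2
      have h4 : x = 1 := Subtype.ext h3
      rw [h4, orderOf_one] at hx
      exact hp.one_lt.ne hx
    have hp6 : (p : ℕ).Coprime 6 := Nat.Coprime.coprime_dvd_left hpd hXcop
    set Q : Subgroup (MulAut V) := (↑P : Subgroup ↥X).map X.subtype with hQdef
    have hQ : IsPGroup p ↥Q := P.2.map X.subtype
    have hQX : Q ≤ X := Subgroup.map_subtype_le _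
    have hQfpf : AFpf α Q := fun x hx h => hXfpf x (hQX hx) h
    have hQα : AInv α Q := by
      intro g x hx
      obtain ⟨x', hx'P, rfl⟩ := Subgroup.mem_map.mp hx
      -- conjugation by `α g` as an automorphism of `X`
      let θ : ↥X ≃* ↥X :=
        { toFun := fun z => ⟨α g * z * (α g)⁻¹, hXα g z z.2⟩
          invFun := fun z => ⟨α g⁻¹ * z * (α g⁻¹)⁻¹, hXα g⁻¹ z z.2⟩
          left_inv := fun z => by
            apply Subtype.ext
            show α g⁻¹ * (α g * z * (α g)⁻¹) * (α g⁻¹)⁻¹ = z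
            rw [map_inv]; group
          right_inv := fun z => by
            apply Subtype.ext
            show α g * (α g⁻¹ * z * (α g⁻¹)⁻¹) * (α g)⁻¹ = z
            rw [map_inv]; group
          map_mul' := fun z w => by
            apply Subtype.ext
            show α g * (z * w : MulAut V) * (α g)⁻¹ = (α g * z * (α g)⁻¹) * (α g * w * (α g)⁻¹)
            group }
      have hpg : IsPGroup p ↥((↑P : Subgroup ↥X).map θ.toMonoidHom) := P.2.map θ.toMonoidHom
      obtain ⟨P', hP'⟩ := hpg.exists_le_sylow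
      rw [huniq P'] at hP'
      have hmem : θ x' ∈ (↑P : Subgroup ↥X) := hP' (Subgroup.mem_map_of_mem _ hx'P)
      exact Subgroup.mem_map.mpr ⟨θ x', hmem, rfl⟩
    have hab := hT (q := p) ht hp hpt ht6 hp6 hV α hVfpf Q hQ hQα hQfpf
    have ha : ((a : ↥X) : MulAut V) ∈ Q := Subgroup.mem_map.mpr ⟨a, a.2, rfl⟩
    have hb : ((b : ↥X) : MulAut V) ∈ Q := Subgroup.mem_map.mpr ⟨b, b.2, rfl⟩
    have := hab _ ha _ hb
    apply Subtype.ext
    apply Subtype.ext
    exact this
  have hcomm : ∀ x y : ↥X, x * y = y * x := by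
    intro x y
    obtain ⟨a, rfl⟩ := φ.surjective x
    obtain ⟨b, rfl⟩ := φ.surjective y
    rw [← map_mul, ← map_mul]
    congr 1
    funext p P
    exact hsyl p P (a p P) (b p P)
  intro x hx y hy
  exact congrArg Subtype.val (hcomm ⟨x, hx⟩ ⟨y, hy⟩)

end Cfsg.Agent.Lib.Helper23.S3E1
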